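import Mathlib
import Cfsg.Agent.Lib.Helper83.SnB.Q8MDefs

/-!
S2986, package [Q8-M], sub-package [M-SXXo] (helper83): `A_E = A_F`, both blocks exceptional,
orthogonal: impossible.
-/

set_option autoImplicit false

namespace Cfsg.Agent.Lib.Helper83.SnB

open Cfsg Cfsg.Agent.Lib.Helper41.SnB Cfsg.Agent.Lib.Helper34.SnB
open scoped commutatorElement

universe u

theorem sxxo_inv_comm_of_sq {G : Type u} [Group G] (z u : G) (hz : z * z = 1) :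
    z * (z * u * z⁻¹ * u⁻¹) * z⁻¹ = (z * u * z⁻¹ * u⁻¹)⁻¹ := by
  have hz' : z⁻¹ = z := inv_eq_of_mul_eq_one_left hz
  have e1 : u * z⁻¹ * u⁻¹ * z⁻¹ = u * z * u⁻¹ * z⁻¹ := by rw [hz']
  calc z * (z * u * z⁻¹ * u⁻¹) * z⁻¹ = (z * z) * u * z⁻¹ * u⁻¹ * z⁻¹ := by group
    _ = u * z⁻¹ * u⁻¹ * z⁻¹ := by rw [hz, one_mul]
    _ = u * z * u⁻¹ * z⁻¹ := e1
    _ = (z * u * z⁻¹ * u⁻¹)⁻¹ := by group

theorem sxxo_comm_central_right {G : Type u} [Group G] (x v' v : G) (h1 : Commute v' x)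
    (h2 : Commute v' v) : x * (v' * v) * x⁻¹ * (v' * v)⁻¹ = x * v * x⁻¹ * v⁻¹ := by
  have hc : Commute v' (x * v * x⁻¹ * v⁻¹) :=
    ((h1.mul_right h2).mul_right h1.inv_right).mul_right h2.inv_right
  calc x * (v' * v) * x⁻¹ * (v' * v)⁻¹ = (x * v') * v * x⁻¹ * v⁻¹ * v'⁻¹ := by group
    _ = (v' * x) * v * x⁻¹ * v⁻¹ * v'⁻¹ := by rw [h1.eq]
    _ = v' * (x * v * x⁻¹ * v⁻¹) * v'⁻¹ := by group
    _ = x * v * x⁻¹ * v⁻¹ := by rw [hc.eq, mul_inv_cancel_right]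

theorem sxxo_comm_central_left {G : Type u} [Group G] (u'' u y : G) (h1 : Commute u'' u)
    (h2 : Commute u'' y) : (u'' * u) * y * (u'' * u)⁻¹ * y⁻¹ = u * y * u⁻¹ * y⁻¹ := by
  have hc : Commute u'' (u * y * u⁻¹) := (h1.mul_right h2).mul_right h1.inv_right
  calc (u'' * u) * y * (u'' * u)⁻¹ * y⁻¹ = u'' * (u * y * u⁻¹) * u''⁻¹ * y⁻¹ := by group
    _ = u * y * u⁻¹ * y⁻¹ := by rw [hc.eq, mul_inv_cancel_right]

theorem pkgSXXo_of (hSI : PkgSI.{u}) : PkgSXXo.{u} := by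
  intro G _ _ p _ S₀ E F KE KF zE zF gf oE oF hA xE xF ho
  obtain ⟨ho1, ho2⟩ := ho
  have hzE : zE ∈ E := oE.q8.KX oE.q8.zK
  have hzF : zF ∈ F := oF.q8.KX oF.q8.zK
  have hzEn : zE ∈ Subgroup.normalizer (E : Set G) := Subgroup.le_normalizer hzE
  have hg₀ : zE * zF ∈ S₀ := S₀.mul_mem (oE.q8.KS oE.q8.zK) (oF.q8.KS oF.q8.zK)
  have hAW : Ab p E ≤ Wb p E := oE.bf.AW
  have hWQ : Wb p E ≤ Qb p E := oE.bf.WQ
  have hQP : Qb p E ≤ pCore p G := oE.sb.QP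
  have hAWF : Ab p E ≤ Wb p F := by rw [hA]; exact oF.bf.AW
  have hWQF : Wb p F ≤ Qb p F := oF.bf.WQ
  have hQPF : Qb p F ≤ pCore p G := oF.sb.QP
  -- Step 1
  have S1 : ∀ u ∈ Qb p E, zF * u * zF⁻¹ * u⁻¹ ∈ Ab p E := by
    intro u hu
    have h1 : zF * u * zF⁻¹ * u⁻¹ ∈ Vb p G := ho1 zF oF.q8.zK u hu
    have h2 : zF * u * zF⁻¹ * u⁻¹ ∈ Qb p F := oF.b1.PXQ zF hzF u (hQP hu)
    have h3 : zF * u * zF⁻¹ * u⁻¹ ∈ Wb p F := oF.b1.VQW (Subgroup.mem_inf.mpr ⟨h1, h2⟩)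
    have h4 := xF.invW _ h3 (sxxo_inv_comm_of_sq zF u oF.q8.zz)
    rw [← hA] at h4; exact h4
  have S1' : ∀ v ∈ Qb p F, zE * v * zE⁻¹ * v⁻¹ ∈ Ab p E := by
    intro v hv
    have h1 : zE * v * zE⁻¹ * v⁻¹ ∈ Vb p G := ho2 zE oE.q8.zK v hv
    have h2 : zE * v * zE⁻¹ * v⁻¹ ∈ Qb p E := oE.b1.PXQ zE hzE v (hQPF hv)
    have h3 : zE * v * zE⁻¹ * v⁻¹ ∈ Wb p E := oE.b1.VQW (Subgroup.mem_inf.mpr ⟨h1, h2⟩)
    exact xE.invW _ h3 (sxxo_inv_comm_of_sq zE v oE.q8.zz)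
  -- Step 2
  have F5 : ∀ a ∈ Ab p E, (zE * zF) * a = a * (zE * zF) := by
    intro a ha
    have h1 : zF * a * zF⁻¹ = a⁻¹ := oF.q8.invA a (hA ▸ ha)
    have h2 : zE * a⁻¹ * zE⁻¹ = (a⁻¹)⁻¹ := oE.q8.invA a⁻¹ (inv_mem ha)
    have h3 : (zE * zF) * a * (zE * zF)⁻¹ = a := by
      calc (zE * zF) * a * (zE * zF)⁻¹ = zE * (zF * a * zF⁻¹) * zE⁻¹ := by group
        _ = a := by rw [h1, h2, inv_inv]
    calc (zE * zF) * a = (zE * zF) * a * (zE * zF)⁻¹ * (zE * zF) := by group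
      _ = a * (zE * zF) := by rw [h3]
  have F6 : ∀ w ∈ Wb p E, (zE * zF) * w * (zE * zF)⁻¹ * w⁻¹ ∈ Ab p E := by
    intro w hw
    have h1 : zF * w * zF⁻¹ * w⁻¹ ∈ Ab p E := S1 w (hWQ hw)
    have h2 : zE * (zF * w * zF⁻¹ * w⁻¹) * zE⁻¹ ∈ Ab p E := oE.bf.nA zE hzEn _ h1
    have h3 : zE * w * zE⁻¹ * w⁻¹ ∈ Ab p E := by
      have h4 : ⁅w, zE⁆ ∈ Ab p E := Subgroup.commutator_mem_commutator hw hzE
      have h5 : zE * w * zE⁻¹ * w⁻¹ = ⁅w, zE⁆⁻¹ := by rw [commutatorElement_def]; group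
      rw [h5]; exact inv_mem h4
    have h6 : (zE * zF) * w * (zE * zF)⁻¹ * w⁻¹
        = zE * (zF * w * zF⁻¹ * w⁻¹) * zE⁻¹ * (zE * w * zE⁻¹ * w⁻¹) := by group
    rw [h6]; exact mul_mem h2 h3
  have F7 : ∀ w ∈ Wb p E, (zE * zF) * w = w * (zE * zF) :=
    coprimeChain (Wb p E) (Ab p E) (zE * zF)
      (fun h hh => ⟨1, by rw [pow_one]; exact oE.b1.W3 h hh⟩) (gf.S2 _ hg₀) hAW F5 F6
  -- Step 3
  have S3F : ∀ y ∈ Qb p E, y ∈ Qb p F → y ∈ Wb p F := by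
    intro y hyE hyF
    have h1 : zF * y * zF⁻¹ * y⁻¹ ∈ Wb p F := hAWF (S1 y hyE)
    have h2 : zF * y * zF⁻¹ * y ∈ Wb p F := xF.exc.invQ y hyF
    have h3 : y * y = (zF * y * zF⁻¹ * y⁻¹)⁻¹ * (zF * y * zF⁻¹ * y) := by group
    apply xF.sqW y hyF
    rw [h3]; exact mul_mem (inv_mem h1) h2
  have βE : ∀ u ∈ Qb p E, ∀ v ∈ Qb p F, u * v * u⁻¹ * v⁻¹ ∈ Qb p E := by
    intro u hu v hv
    have h1 : v * u⁻¹ * v⁻¹ ∈ Qb p E := oE.bf.nQ v (oE.sb.PN (hQPF hv)) u⁻¹ (inv_mem hu)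
    have h2 : u * v * u⁻¹ * v⁻¹ = u * (v * u⁻¹ * v⁻¹) := by group
    rw [h2]; exact mul_mem hu h1
  have βF : ∀ u ∈ Qb p E, ∀ v ∈ Qb p F, u * v * u⁻¹ * v⁻¹ ∈ Qb p F := by
    intro u hu v hv
    have h1 : u * v * u⁻¹ ∈ Qb p F := oF.bf.nQ u (oF.sb.PN (hQP hu)) v hv
    exact mul_mem h1 (inv_mem hv)
  have βWF : ∀ u ∈ Qb p E, ∀ v ∈ Qb p F, u * v * u⁻¹ * v⁻¹ ∈ Wb p F :=
    fun u hu v hv => S3F _ (βE u hu v hv) (βF u hu v hv)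
  have βV : ∀ u ∈ Qb p E, ∀ v ∈ Qb p F, u * v * u⁻¹ * v⁻¹ ∈ Vb p G :=
    fun u hu v hv => xF.WV (βWF u hu v hv)
  -- Step 4
  have βA : ∀ u ∈ Qb p E, ∀ v ∈ Qb p F, u * v * u⁻¹ * v⁻¹ ∈ Ab p E := by
    intro u hu v hv
    have hβ := βWF u hu v hv
    have huP := hQP hu
    have hvP := hQPF hv
    have key : zF * (u * v * u⁻¹ * v⁻¹) * zF⁻¹ = (u * v * u⁻¹ * v⁻¹)⁻¹ := by
      obtain ⟨a, ha⟩ : ∃ a, a = zF * u * zF⁻¹ * u⁻¹ := ⟨_, rfl⟩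
      obtain ⟨w, hw⟩ : ∃ w, w = zF * v * zF⁻¹ * v := ⟨_, rfl⟩
      have haV : a ∈ Vb p G := by rw [ha]; exact oE.sb.AV (S1 u hu)
      have hwV : w ∈ Vb p G := by rw [hw]; exact xF.WV (xF.exc.invQ v hv)
      have hu' : zF * u * zF⁻¹ = a * u := by rw [ha]; group
      have hv' : zF * v * zF⁻¹ = w * v⁻¹ := by rw [hw]; group
      have c1 : Commute a u := gf.Vc a haV u huP
      have c2 : Commute a (w * v⁻¹) := gf.Vc a haV _ (mul_mem (gf.VP hwV) (inv_mem hvP))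
      have c3 : Commute w u := gf.Vc w hwV u huP
      have c4 : Commute w v⁻¹ := gf.Vc w hwV v⁻¹ (inv_mem hvP)
      have c6 : Commute (u * v * u⁻¹ * v⁻¹) v := gf.Vc _ (βV u hu v hv) v hvP
      calc zF * (u * v * u⁻¹ * v⁻¹) * zF⁻¹
          = (zF * u * zF⁻¹) * (zF * v * zF⁻¹) * (zF * u * zF⁻¹)⁻¹ * (zF * v * zF⁻¹)⁻¹ := by
            group
        _ = (a * u) * (w * v⁻¹) * (a * u)⁻¹ * (w * v⁻¹)⁻¹ := by rw [hu', hv']
        _ = u * (w * v⁻¹) * u⁻¹ * (w * v⁻¹)⁻¹ := sxxo_comm_central_left a u (w * v⁻¹) c1 c2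
        _ = u * v⁻¹ * u⁻¹ * (v⁻¹)⁻¹ := sxxo_comm_central_right u w v⁻¹ c3 c4
        _ = v⁻¹ * ((u * v * u⁻¹ * v⁻¹)⁻¹ * v) := by group
        _ = v⁻¹ * (v * (u * v * u⁻¹ * v⁻¹)⁻¹) := by rw [c6.inv_left.eq]
        _ = (u * v * u⁻¹ * v⁻¹)⁻¹ := by group
    have h := xF.invW _ hβ key
    rw [← hA] at h; exact h
  -- Step 5
  have eqK : ∀ k ∈ KE, ∀ u ∈ Qb p E, ∀ v ∈ Qb p F,
      k * (u * v * u⁻¹ * v⁻¹) * k⁻¹ = (k * u * k⁻¹) * v * (k * u * k⁻¹)⁻¹ * v⁻¹ := by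
    intro k hk u hu v hv
    obtain ⟨v', hv'⟩ : ∃ v', v' = k * v * k⁻¹ * v⁻¹ := ⟨_, rfl⟩
    have hv'V : v' ∈ Vb p G := by rw [hv']; exact ho2 k hk v hv
    have hkv : k * v * k⁻¹ = v' * v := by rw [hv']; group
    have hu' : k * u * k⁻¹ ∈ Qb p E :=
      oE.bf.nQ k (Subgroup.le_normalizer (oE.q8.KX hk)) u hu
    have c1 : Commute v' (k * u * k⁻¹) := gf.Vc v' hv'V _ (hQP hu')
    have c2 : Commute v' v := gf.Vc v' hv'V v (hQPF hv)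
    calc k * (u * v * u⁻¹ * v⁻¹) * k⁻¹
        = (k * u * k⁻¹) * (k * v * k⁻¹) * (k * u * k⁻¹)⁻¹ * (k * v * k⁻¹)⁻¹ := by group
      _ = (k * u * k⁻¹) * (v' * v) * (k * u * k⁻¹)⁻¹ * (v' * v)⁻¹ := by rw [hkv]
      _ = (k * u * k⁻¹) * v * (k * u * k⁻¹)⁻¹ * v⁻¹ := sxxo_comm_central_right _ _ _ c1 c2
  have eqL : ∀ l ∈ KF, ∀ u ∈ Qb p E, ∀ v ∈ Qb p F,
      l * (u * v * u⁻¹ * v⁻¹) * l⁻¹ = u * (l * v * l⁻¹) * u⁻¹ * (l * v * l⁻¹)⁻¹ := by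
    intro l hl u hu v hv
    obtain ⟨u'', hu''⟩ : ∃ u'', u'' = l * u * l⁻¹ * u⁻¹ := ⟨_, rfl⟩
    have hu''V : u'' ∈ Vb p G := by rw [hu'']; exact ho1 l hl u hu
    have hlu : l * u * l⁻¹ = u'' * u := by rw [hu'']; group
    have hv' : l * v * l⁻¹ ∈ Qb p F :=
      oF.bf.nQ l (Subgroup.le_normalizer (oF.q8.KX hl)) v hv
    have c1 : Commute u'' u := gf.Vc u'' hu''V u (hQP hu)
    have c2 : Commute u'' (l * v * l⁻¹) := gf.Vc u'' hu''V _ (hQPF hv')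
    calc l * (u * v * u⁻¹ * v⁻¹) * l⁻¹
        = (l * u * l⁻¹) * (l * v * l⁻¹) * (l * u * l⁻¹)⁻¹ * (l * v * l⁻¹)⁻¹ := by group
      _ = (u'' * u) * (l * v * l⁻¹) * (u'' * u)⁻¹ * (l * v * l⁻¹)⁻¹ := by rw [hlu]
      _ = u * (l * v * l⁻¹) * u⁻¹ * (l * v * l⁻¹)⁻¹ := sxxo_comm_central_left _ _ _ c1 c2
  -- Step 6
  obtain ⟨B₀, hB₀⟩ : ∃ B₀ : Subgroup G, B₀ = Subgroup.closure
      {g : G | ∃ u ∈ Qb p E, ∃ v ∈ Qb p F, g = u * v * u⁻¹ * v⁻¹} := ⟨_, rfl⟩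
  have hB₀A : B₀ ≤ Ab p E := by
    rw [hB₀, Subgroup.closure_le]
    rintro g ⟨u, hu, v, hv, rfl⟩
    exact βA u hu v hv
  have hB₀K : Nz KE B₀ := by
    intro k hk b hb
    rw [hB₀] at hb ⊢
    induction hb using Subgroup.closure_induction with
    | mem g hg =>
      obtain ⟨u, hu, v, hv, rfl⟩ := hg
      apply Subgroup.subset_closure
      exact ⟨k * u * k⁻¹, oE.bf.nQ k (Subgroup.le_normalizer (oE.q8.KX hk)) u hu, v, hv,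
        eqK k hk u hu v hv⟩
    | one =>
      have h1 : k * 1 * k⁻¹ = 1 := by group
      rw [h1]; exact one_mem _
    | mul x y _ _ hx hy =>
      have h1 : k * (x * y) * k⁻¹ = (k * x * k⁻¹) * (k * y * k⁻¹) := by group
      rw [h1]; exact mul_mem hx hy
    | inv x _ hx =>
      have h1 : k * x⁻¹ * k⁻¹ = (k * x * k⁻¹)⁻¹ := by group
      rw [h1]; exact inv_mem hx
  obtain ⟨-, -, -, -, -, -, -, hirr⟩ := oE.cq
  have hcomm : ∀ u ∈ Qb p E, ∀ v ∈ Qb p F, u * v = v * u := by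
    rcases (hirr KE le_rfl (fun l hl l' hl' hnl _ => absurd hl hnl)).2 B₀ hB₀A hB₀K with hb | hb
    · intro u hu v hv
      have h1 : u * v * u⁻¹ * v⁻¹ ∈ B₀ := by
        rw [hB₀]; exact Subgroup.subset_closure ⟨u, hu, v, hv, rfl⟩
      rw [hb, Subgroup.mem_bot] at h1
      calc u * v = (u * v * u⁻¹ * v⁻¹) * v * u := by group
        _ = v * u := by rw [h1, one_mul]
    · exfalso
      have hkl : ∀ k ∈ KE, ∀ l ∈ KF, ∀ b ∈ Ab p E,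
          (k * l) * b * (k * l)⁻¹ = (l * k) * b * (l * k)⁻¹ := by
        intro k hk l hl b hb'
        rw [← hb, hB₀] at hb'
        induction hb' using Subgroup.closure_induction with
        | mem g hg =>
          obtain ⟨u, hu, v, hv, rfl⟩ := hg
          have hlv : l * v * l⁻¹ ∈ Qb p F :=
            oF.bf.nQ l (Subgroup.le_normalizer (oF.q8.KX hl)) v hv
          have hku : k * u * k⁻¹ ∈ Qb p E :=
            oE.bf.nQ k (Subgroup.le_normalizer (oE.q8.KX hk)) u hu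
          calc (k * l) * (u * v * u⁻¹ * v⁻¹) * (k * l)⁻¹
              = k * (l * (u * v * u⁻¹ * v⁻¹) * l⁻¹) * k⁻¹ := by group
            _ = k * (u * (l * v * l⁻¹) * u⁻¹ * (l * v * l⁻¹)⁻¹) * k⁻¹ := by
              rw [eqL l hl u hu v hv]
            _ = (k * u * k⁻¹) * (l * v * l⁻¹) * (k * u * k⁻¹)⁻¹ * (l * v * l⁻¹)⁻¹ :=
              eqK k hk u hu _ hlv
            _ = l * ((k * u * k⁻¹) * v * (k * u * k⁻¹)⁻¹ * v⁻¹) * l⁻¹ :=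
              (eqL l hl _ hku v hv).symm
            _ = l * (k * (u * v * u⁻¹ * v⁻¹) * k⁻¹) * l⁻¹ := by rw [eqK k hk u hu v hv]
            _ = (l * k) * (u * v * u⁻¹ * v⁻¹) * (l * k)⁻¹ := by group
        | one => group
        | mul x y _ _ hx hy =>
          calc (k * l) * (x * y) * (k * l)⁻¹
              = ((k * l) * x * (k * l)⁻¹) * ((k * l) * y * (k * l)⁻¹) := by group
            _ = ((l * k) * x * (l * k)⁻¹) * ((l * k) * y * (l * k)⁻¹) := by rw [hx, hy]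
            _ = (l * k) * (x * y) * (l * k)⁻¹ := by group
        | inv x _ hx =>
          calc (k * l) * x⁻¹ * (k * l)⁻¹ = ((k * l) * x * (k * l)⁻¹)⁻¹ := by group
            _ = ((l * k) * x * (l * k)⁻¹)⁻¹ := by rw [hx]
            _ = (l * k) * x⁻¹ * (l * k)⁻¹ := by group
      obtain ⟨k, hk, k', hk', hkk⟩ := oE.b1.nonab
      obtain ⟨l, hl, hla⟩ := hSI S₀ F E KF KE zF zE gf oF oE hA.symm k' hk'
      have hall : ∀ a ∈ Ab p E, a = 1 := by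
        intro a ha
        have hkn := Subgroup.le_normalizer (oE.q8.KX hk)
        have hka : k * a * k⁻¹ ∈ Ab p E := oE.bf.nA k hkn a ha
        have h1 := hkl k hk l hl a ha
        have h2 : (k * l) * a * (k * l)⁻¹ = k * (k' * a * k'⁻¹) * k⁻¹ := by
          rw [← hla a (hA ▸ ha)]; group
        have h3 : (l * k) * a * (l * k)⁻¹ = k' * (k * a * k⁻¹) * k'⁻¹ := by
          rw [← hla (k * a * k⁻¹) (hA ▸ hka)]; group
        obtain ⟨a', ha'⟩ : ∃ a', a' = k' * (k * a * k⁻¹) * k'⁻¹ := ⟨_, rfl⟩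
        have ha'A : a' ∈ Ab p E := by
          rw [ha']
          exact oE.bf.nA k' (Subgroup.le_normalizer (oE.q8.KX hk')) _ hka
        have h4 : zE * a' * zE⁻¹ = a' := by
          have h5 : zE * a' * zE⁻¹ = k * (k' * a * k'⁻¹) * k⁻¹ := by
            rw [ha', ← hkk]; group
          rw [h5, ← h2, h1, h3, ha']
        have h5 : zE * a' * zE⁻¹ = a'⁻¹ := oE.q8.invA a' ha'A
        have h6 : a' = a'⁻¹ := h4.symm.trans h5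
        have h7 : a' * a' = 1 := by
          calc a' * a' = a' * a'⁻¹ := by rw [← h6]
            _ = 1 := mul_inv_cancel a'
        have h8 : a' ^ 3 = 1 := oE.b1.W3 a' (hAW ha'A)
        have h9 : a' = 1 := by
          have h10 : a' ^ 3 = a' * a' * a' := by rw [pow_succ, pow_two]
          rw [h10, h7, one_mul] at h8
          exact h8
        have h11 : a = k⁻¹ * (k'⁻¹ * a' * k') * k := by rw [ha']; group
        rw [h11, h9]; group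
      have hbot : Ab p E = ⊥ := (Subgroup.eq_bot_iff_forall _).mpr hall
      have h9 := oE.q8.cardA
      have h1 : Nat.card ↥(Ab p E) = 1 := by rw [hbot]; exact Subgroup.card_bot
      omega
  -- Step 7
  refine xE.noInv (zE * zF) hg₀ ?_ ?_ ?_ ?_
  · intro u hu
    have h1 : zF * u * zF⁻¹ ∈ Qb p E := by
      have h2 : zF * u * zF⁻¹ * u⁻¹ ∈ Qb p E := hWQ (hAW (S1 u hu))
      have h3 : zF * u * zF⁻¹ = (zF * u * zF⁻¹ * u⁻¹) * u := by group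
      rw [h3]; exact mul_mem h2 hu
    have h4 := oE.bf.nQ zE hzEn _ h1
    have h5 : (zE * zF) * u * (zE * zF)⁻¹ = zE * (zF * u * zF⁻¹) * zE⁻¹ := by group
    rw [h5]; exact h4
  · intro w hw
    have h1 := F7 w hw
    have h2 : (zE * zF) * w * (zE * zF)⁻¹ * w⁻¹ = 1 := by rw [h1]; group
    rw [h2]; exact one_mem _
  · intro c hc u hu
    obtain ⟨qF, hqF⟩ : ∃ qF, qF = zF * c * zF⁻¹ * c⁻¹ := ⟨_, rfl⟩
    have hqFQ : qF ∈ Qb p F := by rw [hqF]; exact oF.b1.PXQ zF hzF c hc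
    obtain ⟨a₁, ha₁⟩ : ∃ a₁, a₁ = zE * qF * zE⁻¹ * qF⁻¹ := ⟨_, rfl⟩
    have ha₁Q : a₁ ∈ Qb p E := by rw [ha₁]; exact hWQ (hAW (S1' qF hqFQ))
    obtain ⟨q₂, hq₂⟩ : ∃ q₂, q₂ = zE * c * zE⁻¹ * c⁻¹ := ⟨_, rfl⟩
    have hq₂Q : q₂ ∈ Qb p E := by rw [hq₂]; exact oE.b1.PXQ zE hzE c hc
    have hd : (zE * zF) * c * (zE * zF)⁻¹ * c⁻¹ = a₁ * qF * q₂ := by
      rw [ha₁, hq₂, hqF]; group
    rw [hd]
    have hc1 : qF * (q₂ * u * q₂⁻¹) = (q₂ * u * q₂⁻¹) * qF :=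
      (hcomm _ (mul_mem (mul_mem hq₂Q hu) (inv_mem hq₂Q)) qF hqFQ).symm
    have h2 : (a₁ * qF * q₂) * u * (a₁ * qF * q₂)⁻¹ * u⁻¹
        = (a₁ * q₂) * u * (a₁ * q₂)⁻¹ * u⁻¹ := by
      calc (a₁ * qF * q₂) * u * (a₁ * qF * q₂)⁻¹ * u⁻¹
          = a₁ * (qF * (q₂ * u * q₂⁻¹)) * qF⁻¹ * a₁⁻¹ * u⁻¹ := by group
        _ = a₁ * ((q₂ * u * q₂⁻¹) * qF) * qF⁻¹ * a₁⁻¹ * u⁻¹ := by rw [hc1]
        _ = (a₁ * q₂) * u * (a₁ * q₂)⁻¹ * u⁻¹ := by group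
    rw [h2]
    exact xE.QZ _ (mul_mem ha₁Q hq₂Q) u hu
  · intro u hu
    have h1 : zE * (zF * u * zF⁻¹ * u⁻¹) * zE⁻¹ ∈ Wb p E :=
      hAW (oE.bf.nA zE hzEn _ (S1 u hu))
    have h2 : zE * u * zE⁻¹ * u ∈ Wb p E := xE.exc.invQ u hu
    have h3 : (zE * zF) * u * (zE * zF)⁻¹ * u
        = zE * (zF * u * zF⁻¹ * u⁻¹) * zE⁻¹ * (zE * u * zE⁻¹ * u) := by group
    rw [h3]; exact mul_mem h1 h2

end Cfsg.Agent.Lib.Helper83.SnB
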