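import Mathlib
import Cfsg.Prelude.Def_CaseTheorems
import Cfsg.Agent.Lib.Helper34.SnB.QSDefs
import Cfsg.Agent.Lib.Helper34.SnB.QSAsm

/-!
# S2986 [QS] sub-package [QS-DICH]

`A_E = A_F`, or each block centralizes the `A` of the other: `pkgDich_of (hR : PkgRes) : PkgDich`.
-/

set_option autoImplicit false

namespace Cfsg.Agent.Lib.Helper83.SnB

open Cfsg Cfsg.Agent.Lib.Helper41.SnB Cfsg.Agent.Lib.Helper34.SnB
open scoped commutatorElement

universe u

variable {G : Type u} [Group G]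

theorem cc_symm {p : ℕ} {E F : Subgroup G} (hC : CC p E F) : CC p F E := by
  intro f hf e he
  have h1 := (pCore p G).inv_mem (hC e he f hf)
  have h2 : (e * f * e⁻¹ * f⁻¹)⁻¹ = f * e * f⁻¹ * e⁻¹ := by group
  rwa [h2] at h1

/-- If `A_E ∩ A_F ≤ Z_E` then each block centralizes the `A` of the other. -/
theorem dich_aux [Finite G] {p : ℕ} [Fact p.Prime] (hR : PkgRes.{u}) (E F : Subgroup G)
    (hE : SBlk p E) (hF : SBlk p F) (fE : BF p E) (fF : BF p F) (hC : CC p E F)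
    (hEF : Nz E F) (hFE : Nz F E) (hD : Ab p E ⊓ Ab p F ≤ Zb p E) :
    ⁅Ab p E, F⁆ = ⊥ ∧ ⁅Ab p F, E⁆ = ⊥ := by
  have hFNE : F ≤ Subgroup.normalizer (E : Set G) := nz_le_normalizer hFE
  have hENF : E ≤ Subgroup.normalizer (F : Set G) := nz_le_normalizer hEF
  have hZC : Zb p E ≤ Subgroup.centralizer (E : Set G) := inf_le_right
  have hDE : ⁅Ab p E ⊓ Ab p F, E⁆ = ⊥ :=
    Subgroup.commutator_eq_bot_iff_le_centralizer.mpr (hD.trans hZC)
  -- `[A_E, F] ≤ A_E ∩ A_F`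
  have h1 : ⁅Ab p E, F⁆ ≤ Ab p E ⊓ Ab p F := by
    refine le_inf ?_ ?_
    · rw [Subgroup.commutator_le]
      intro a ha f hf
      rw [commutatorElement_def]
      have h2 : f * a⁻¹ * f⁻¹ ∈ Ab p E := fE.nA f (hFNE hf) _ (inv_mem ha)
      have h3 : a * f * a⁻¹ * f⁻¹ = a * (f * a⁻¹ * f⁻¹) := by group
      rw [h3]
      exact mul_mem ha h2
    · exact (Subgroup.commutator_mono hE.AV le_rfl).trans fF.VA
  -- `[A_F, E] ≤ A_E ∩ A_F`
  have h2 : ⁅Ab p F, E⁆ ≤ Ab p E ⊓ Ab p F := by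
    refine le_inf ?_ ?_
    · exact (Subgroup.commutator_mono hF.AV le_rfl).trans fE.VA
    · rw [Subgroup.commutator_le]
      intro a ha e he
      rw [commutatorElement_def]
      have h2 : e * a⁻¹ * e⁻¹ ∈ Ab p F := fF.nA e (hENF he) _ (inv_mem ha)
      have h3 : a * e * a⁻¹ * e⁻¹ = a * (e * a⁻¹ * e⁻¹) := by group
      rw [h3]
      exact mul_mem ha h2
  -- `[A_F, E] = 1`
  have h3 : ⁅⁅Ab p F, E⁆, E⁆ = ⊥ := by
    rw [eq_bot_iff, ← hDE]
    exact Subgroup.commutator_mono h2 le_rfl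
  have hAFp : IsPGroup p ↥(Ab p F) := fF.Qp.to_le (fF.AW.trans fF.WQ)
  have hNzEAF : Nz E (Ab p F) := fun e he a ha => fF.nA e (hENF he) a ha
  have h4 : ⁅Ab p F, E⁆ = ⊥ := by
    rw [← hR E (Ab p F) hE.res hAFp hNzEAF]
    exact h3
  -- `[A_E, F] = 1` by the three subgroups lemma
  have h5 : ⁅⁅Ab p E, F⁆, E⁆ = ⊥ := by
    rw [eq_bot_iff, ← hDE]
    exact Subgroup.commutator_mono h1 le_rfl
  have h6 : ⁅F, E⁆ ≤ pCore p G := by
    rw [Subgroup.commutator_le]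
    intro f hf e he
    rw [commutatorElement_def]
    exact cc_symm hC f hf e he
  have h7 : pCore p G ≤ Subgroup.centralizer (Ab p E : Set G) := by
    intro x hx
    rw [Subgroup.mem_centralizer_iff]
    intro a ha
    exact (fE.PA x hx a ha).symm
  have h8 : ⁅⁅F, E⁆, Ab p E⁆ = ⊥ :=
    Subgroup.commutator_eq_bot_iff_le_centralizer.mpr (h6.trans h7)
  have h9 : ⁅⁅E, Ab p E⁆, F⁆ = ⊥ := Subgroup.commutator_commutator_eq_bot_of_rotate h5 h8
  have h10 : ⁅E, Ab p E⁆ = Ab p E := by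
    rw [Subgroup.commutator_comm]
    exact fE.AA
  rw [h10] at h9
  exact ⟨h9, h4⟩

theorem pkgDich_of (hR : PkgRes.{u}) : PkgDich.{u} := by
  intro G _ _ p _ E F hE hF fE fF hC hEF hFE
  have hNzEAE : Nz E (Ab p E) := fun e he a ha => fE.nA e (Subgroup.le_normalizer he) a ha
  have hNzEAF : Nz E (Ab p F) := fun e he a ha => fF.nA e (nz_le_normalizer hEF he) a ha
  have hNzFAF : Nz F (Ab p F) := fun f hf a ha => fF.nA f (Subgroup.le_normalizer hf) a ha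
  have hNzFAE : Nz F (Ab p E) := fun f hf a ha => fE.nA f (nz_le_normalizer hFE hf) a ha
  have hNzED : Nz E (Ab p E ⊓ Ab p F) := fun e he a ha =>
    Subgroup.mem_inf.mpr ⟨hNzEAE e he a (Subgroup.mem_inf.mp ha).1,
      hNzEAF e he a (Subgroup.mem_inf.mp ha).2⟩
  have hNzFD : Nz F (Ab p E ⊓ Ab p F) := fun f hf a ha =>
    Subgroup.mem_inf.mpr ⟨hNzFAE f hf a (Subgroup.mem_inf.mp ha).1,
      hNzFAF f hf a (Subgroup.mem_inf.mp ha).2⟩
  rcases fE.irr (Ab p E ⊓ Ab p F) inf_le_left hNzED with h1 | h1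
  · exact Or.inr (dich_aux hR E F hE hF fE fF hC hEF hFE h1)
  · rcases fF.irr (Ab p E ⊓ Ab p F) inf_le_right hNzFD with h2 | h2
    · right
      have h3 : Ab p F ⊓ Ab p E ≤ Zb p F := by
        rw [inf_comm]
        exact h2
      have h4 := dich_aux hR F E hF hE fF fE (cc_symm hC) hFE hEF h3
      exact ⟨h4.2, h4.1⟩
    · left
      rw [← h1, h2]

end Cfsg.Agent.Lib.Helper83.SnB
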